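import Groth.Agent.S2491
import Groth.Agent.AmpleX.BaseChange
import Groth.Agent.AmpleX.Rel
import Mathlib.AlgebraicGeometry.Morphisms.Descent

/-!
# Relative ampleness descends along quasi-compact faithfully flat morphisms
-/

universe u

set_option autoImplicit false
set_option backward.isDefEq.respectTransparency false
set_option backward.isDefEq.respectTransparency.types false
set_option linter.style.haveILetI false

open CategoryTheory CategoryTheory.Limits AlgebraicGeometry TopologicalSpace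

namespace Groth.Agent.ModStLib.Ample

open Groth.Agent.AmpleX

theorem isAmple_pullback_iso {P Z : Scheme.{u}} (e : Z ≅ P) {M : P.Modules} (hM : CohB1.IsAmple M) :
    CohB1.IsAmple ((Scheme.Modules.pullback e.hom).obj M) := by
  have h : CohB1.IsAmple (M.restrict (𝟙 P)) := isAmple_of_iso (Scheme.Modules.restrictFunctorId.app M).symm hM
  refine isAmple_of_iso ((Scheme.Modules.restrictFunctorIsoPullback e.hom).app M)
    (isAmple_restrict_congr (𝟙 P) e.hom (isAmple_iff.1 hM).1 ?_ h)
  rw [Scheme.Hom.opensRange_of_isIso, Scheme.Hom.opensRange_of_isIso]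

/-- An open with compact preimage has a faithfully flat affine scheme over it through the cover. -/
theorem exists_affine_over {S S' : Scheme.{u}} (g : S' ⟶ S) [QuasiCompact g] [Flat g] [Surjective g]
    {V : S.Opens} (hV : IsAffineOpen V) :
    ∃ (Y : Scheme.{u}) (k : Y ⟶ S') (g' : Y ⟶ V), IsAffine Y ∧ Flat g' ∧ Surjective g' ∧ g' ≫ V.ι = k ≫ g := by
  obtain ⟨c, hcfin, hc⟩ := isCompact_and_isOpen_iff_finite_and_eq_biUnion_affineOpens.1
    ⟨g.isCompact_preimage hV.isCompact, (g ⁻¹ᵁ V).2⟩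
  haveI := hcfin.to_subtype
  have hle : ∀ i : c, i.1.1 ≤ g ⁻¹ᵁ V := fun i y hy => hc.ge (Set.mem_iUnion₂.2 ⟨i.1, i.2, hy⟩)
  haveI : ∀ i : c, IsAffine (i.1.1 : Scheme.{u}) := fun i => i.1.2
  let W : c → Scheme.{u} := fun i => i.1.1.toScheme
  let g' : ∐ W ⟶ (V : Scheme.{u}) := Sigma.desc fun i => g.resLE V i.1.1 (hle i)
  let k : ∐ W ⟶ S' := Sigma.desc fun i => i.1.1.ι
  have hw : g' ≫ V.ι = k ≫ g := Sigma.hom_ext _ _ fun i => by
    simp [g', k, W]
  haveI : ∀ i : c, Flat (g.resLE V i.1.1 (hle i)) := fun i => by infer_instance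
  refine ⟨∐ W, k, g', inferInstance, IsZariskiLocalAtSource.sigmaDesc fun i => inferInstance, ⟨fun v => ?_⟩, hw⟩
  obtain ⟨y, hy⟩ := g.surjective (V.ι v)
  have hyV : y ∈ g ⁻¹ᵁ V := show g y ∈ V from hy ▸ v.2
  obtain ⟨i, hi, hyi⟩ := Set.mem_iUnion₂.1 (hc.le hyV)
  refine ⟨Sigma.ι W ⟨i, hi⟩ ⟨y, hyi⟩, V.ι.injective ?_⟩
  rw [← Scheme.Hom.comp_apply, ← Scheme.Hom.comp_apply, hw]
  simp [k, W]
  exact hy

/-- Relative ampleness descends. -/
theorem isRelAmple_of_baseChange {X S S' : Scheme.{u}} (f : X ⟶ S) (L : X.Modules) (hL : PicF.IsInvertible L)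
    (g : S' ⟶ S) [QuasiCompact g] [Flat g] [Surjective g]
    (h : RelAmple.IsRelAmple (pullback.snd f g) ((Scheme.Modules.pullback (pullback.fst f g)).obj L)) :
    RelAmple.IsRelAmple f L := by
  have hq : (@Surjective ⊓ @Flat ⊓ @QuasiCompact : MorphismProperty Scheme.{u}) g :=
    ⟨⟨inferInstance, inferInstance⟩, inferInstance⟩
  haveI := h.1
  haveI := EtFound.fpqc_quasiCompact.{u}
  haveI hfq : QuasiCompact f :=
    MorphismProperty.of_pullback_snd_of_descendsAlong (P := @QuasiCompact) hq inferInstance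
  refine ⟨hfq, fun V => ?_⟩
  haveI : IsAffine (V.1 : Scheme.{u}) := V.2
  obtain ⟨Y, k, g', hY, hfl, hsurj, hw⟩ := exists_affine_over g V.2
  haveI := hY
  haveI := hfl
  haveI := hsurj
  haveI : QuasiCompact (f ∣_ V.1) := IsZariskiLocalAtTarget.restrict (P := @QuasiCompact) inferInstance V.1
  refine S2491.result (f ∣_ V.1) g' _ (isInvertible_restrict _ hL) ?_
  have hA := (isRelAmple_iff_isAmple (pullback.snd (pullback.snd f g) k) _).1
    (isRelAmple_baseChange (pullback.snd f g) k h)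
  let sqZ := (IsPullback.of_hasPullback (f ∣_ V.1) g').paste_horiz (isPullback_morphismRestrict f V.1).flip
  let sqP : IsPullback (pullback.fst (pullback.snd f g) k ≫ pullback.fst f g)
      (pullback.snd (pullback.snd f g) k) f (g' ≫ V.1.ι) :=
    hw.symm ▸ (IsPullback.of_hasPullback (pullback.snd f g) k).paste_horiz (IsPullback.of_hasPullback f g)
  let e := sqZ.isoIsPullback _ _ sqP
  have he : e.hom ≫ pullback.fst (pullback.snd f g) k ≫ pullback.fst f g =
      pullback.fst (f ∣_ V.1) g' ≫ (f ⁻¹ᵁ V.1).ι := sqZ.isoIsPullback_hom_fst _ _ sqP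
  refine isAmple_of_iso ?_ (isAmple_pullback_iso e hA)
  exact (Scheme.Modules.pullback e.hom).mapIso ((Scheme.Modules.pullbackComp _ _).app L) ≪≫
    (Scheme.Modules.pullbackComp _ _).app L ≪≫ (Scheme.Modules.pullbackCongr he).app L ≪≫
    ((Scheme.Modules.pullbackComp _ _).app L).symm ≪≫
    (Scheme.Modules.pullback _).mapIso ((Scheme.Modules.restrictFunctorIsoPullback _).app L).symm

end Groth.Agent.ModStLib.Ample
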